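import Cfsg.Agent.H46.Fi22Out.Class
import Cfsg.Prelude.Def_KGroupFacts

/-!
`Out(Fi₂₂)` has order two.
-/

set_option autoImplicit false
set_option maxRecDepth 100000

open scoped Pointwise

namespace Cfsg.Agent.H46.Fi22Out

open Cfsg.Agent.H45 Cfsg.Spor

variable {φ : G →* Equiv.Perm (Fin 3510)}

theorem card_G : Nat.card G = 64561751654400 := Fi22Top.order_facts.2.1

theorem finite_G : Finite G := Fi22Top.order_facts.1

theorem fact11 : (64561751654400 : ℕ).factorization 11 = 1 := by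
  rw [show (64561751654400 : ℕ) = 11 * 5869250150400 by norm_num,
    Nat.factorization_mul (by norm_num) (by norm_num), Finsupp.add_apply,
    Nat.Prime.factorization_self (by norm_num),
    Nat.factorization_eq_zero_of_not_dvd (by norm_num)]

theorem Rep.g11_facts (R : Rep φ) :
    orderOf g11 = 11 ∧ g11 * e 0 = e 0 * g11 := by
  have h := g11_ok
  simp only [Bool.and_eq_true] at h
  obtain ⟨⟨⟨⟨h11, h0⟩, -⟩, -⟩, hfix⟩ := h
  have : Fact (Nat.Prime 11) := ⟨by norm_num⟩
  refine ⟨orderOf_eq_prime ?_ ?_,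
    (R.comm_iff_fix0 _).mp (R.fix_of_walk g11_lt (Nat.eq_of_beq_eq_true h0))⟩
  · rw [g11, ← evalW_pow]; exact R.triv h11
  · intro h1
    have h2 := R.walk_of_fix g11_lt (x := (1 : Fin 3510)) (by
      have : evalW e Data.g11 = 1 := h1
      rw [this, map_one φ, Equiv.Perm.one_apply])
    have h3 := allLt_sound hfix 1 (by norm_num)
    simp only [Bool.or_eq_true, Bool.not_eq_true', ← Bool.not_eq_true, Nat.beq_eq] at h3
    exact h3.elim (by norm_num) fun h => h h2

theorem Rep.auto_class (R : Rep φ) (α : MulAut G) : ∃ z : G, α (e 0) = cj z := by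
  have := finite_G
  have : Fact (Nat.Prime 11) := ⟨by norm_num⟩
  obtain ⟨ho, hc⟩ := R.g11_facts
  have ho' : orderOf (α g11) = 11 := by rw [← ho]; exact MulEquiv.orderOf_eq α g11
  have hcard : ∀ x : G, orderOf x = 11 →
      Nat.card (Subgroup.zpowers x) = 11 ^ (Nat.card G).factorization 11 := by
    intro x hx; rw [Nat.card_zpowers, hx, card_G, fact11, pow_one]
  let P₁ : Sylow 11 G := Sylow.ofCard _ (hcard _ ho')
  let P₂ : Sylow 11 G := Sylow.ofCard _ (hcard _ ho)
  obtain ⟨x, hx⟩ := MulAction.exists_smul_eq G P₁ P₂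
  have hx' : (MulAut.conj x • Subgroup.zpowers (α g11) : Subgroup G) = Subgroup.zpowers g11 :=
    congrArg (fun P : Sylow 11 G => (P : Subgroup G)) hx
  have hmem : g11 ∈ Subgroup.zpowers g11 := Subgroup.mem_zpowers g11
  rw [← hx', Subgroup.mem_smul_pointwise_iff_exists] at hmem
  obtain ⟨y, hy, hyx⟩ := hmem
  obtain ⟨k, rfl⟩ := hy
  have hcomm : Commute (α g11) (α (e 0)) := Commute.map hc α
  have hne : α (e 0) ≠ 1 := by
    rw [← map_one α, α.injective.ne_iff]
    intro h
    have hb : pb < 3510 := by decide +kernel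
    have h2 := R.walk_of_fix (w := [0]) (by simp) (x := ⟨pb, hb⟩) (by simp [evalW, h])
    have hne : ¬ walkC (cw cols [0]) pb = pb := by decide +kernel
    exact hne h2
  refine ⟨x⁻¹, ?_⟩
  have ht : MulAut.conj x (α (e 0)) = e 0 := by
    refine R.eq_a ?_ ?_ ?_
    · rw [← map_one (MulAut.conj x), (MulAut.conj x).injective.ne_iff]; exact hne
    · rw [← map_mul, ← map_mul, e_sq, map_one, map_one]
    · rw [← hyx]
      exact ((hcomm.zpow_left k).map (MulAut.conj x)).eq
  rw [cj, inv_inv]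
  rw [MulAut.conj_apply] at ht
  calc α (e 0) = x⁻¹ * (x * α (e 0) * x⁻¹) * x := by group
    _ = x⁻¹ * e 0 * x := by rw [ht]

/-- the automorphism takes the given values on the letters of a partial tuple -/
def Agree (α : MulAut G) (d : List (ℕ × List ℕ)) : Prop :=
  ∀ ju ∈ d, ju.1 < 9 ∧ (∀ l ∈ ju.2, l < 9) ∧ α (e ju.1) = TT ju.2

theorem cu_pt_inj {i j : ℕ} (hi : i < 9) (hj : j < 9)
    (h : ptOf cols (Data.cu.getD i []) = ptOf cols (Data.cu.getD j [])) : i = j := by
  have h' := List.inj_on_of_nodup_map cu_distinct (List.mem_range.mpr hi) (List.mem_range.mpr hj) h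
  exact h'

theorem Rep.cand_sound (R : Rep φ) {α : MulAut G} {d : List (ℕ × List ℕ)} (hd : Agree α d)
    {k : ℕ} (hk : k < 9) (hkd : ∀ ju ∈ d, ju.1 ≠ k) {g : G} (hg : α (e k) = cj g) :
    cand cols Data.cu d k (φ g 0 : Fin 3510) = true := by
  simp only [cand, List.all_eq_true, Bool.and_eq_true, beq_iff_eq, Bool.not_eq_true',
    ← Bool.not_eq_true, Nat.beq_eq]
  intro ju hju
  obtain ⟨hj, hul, hju'⟩ := hd ju hju
  have hwk : ∀ {u : List ℕ} (hu : ∀ l ∈ u, l < 9) (x : Fin 3510),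
      walkC (cw cols (conjW u)) x = x ↔ φ (TT u) x = x := by
    intro u hu x
    rw [← evalW_conjW]
    exact ⟨R.fix_of_walk (conjW_lt hu), R.walk_of_fix (conjW_lt hu)⟩
  refine ⟨?_, ?_⟩
  · rw [Bool.eq_iff_iff, Nat.beq_eq, Nat.beq_eq, hwk hul,
      ← R.pt (cu_lt' k), hwk (cu_lt' ju.1)]
    rw [show TT ju.2 = cj (evalW e ju.2)⁻¹ from rfl, R.fix_iff_comm,
      show TT (Data.cu.getD ju.1 []) = cj (evalW e (Data.cu.getD ju.1 []))⁻¹ from rfl,
      R.fix_iff_comm]
    rw [show cj (evalW e ju.2)⁻¹ = α (e ju.1) from hju'.symm, ← hg, ← map_mul, ← map_mul,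
      α.injective.eq_iff]
    rw [show cj (evalW e (Data.cu.getD ju.1 []))⁻¹ = e ju.1 from (R.e_eq_TT hj).symm,
      show cj (evalW e (Data.cu.getD k []))⁻¹ = e k from (R.e_eq_TT hk).symm]
  · intro h
    rw [← R.pt hul] at h
    have h1 : α (e k) = α (e ju.1) := by
      rw [hg, hju']; exact (R.cj_eq _ _).mp (Fin.ext h)
    have h2 := α.injective h1
    rw [R.e_eq_TT hk, R.e_eq_TT hj] at h2
    have h3 := congrArg Fin.val ((R.cj_eq _ _).mpr h2)
    rw [R.pt (cu_lt' k), R.pt (cu_lt' ju.1)] at h3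
    exact hkd ju hju (cu_pt_inj hk hj h3).symm

/-- an automorphism is inner times one of the listed ones -/
def Concl (α : MulAut G) : Prop :=
  ∃ x : G, ∃ d ∈ Data.leaves, Agree (MulAut.conj x * α) d

theorem Rep.tree_sound (R : Rep φ) : ∀ (T : Tr) (d : List (ℕ × List ℕ)) (k : ℕ),
    chk 9 3510 cols Data.cu Data.leaves T d k = true →
      (T.main = true → ∀ α, Agree α d → Concl α) ∧
      (∀ bs ∈ T.kids cols, ∃ u, (∀ l ∈ u, l < 9) ∧ ptOf cols u = bs.1 ∧
        ∀ α, Agree α ((k, u) :: d) → Concl α) := by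
  intro T
  induction T with
  | nil => intro d k _; exact ⟨fun h => by simp [Tr.main] at h, by simp [Tr.kids]⟩
  | leaf =>
    intro d k h
    refine ⟨fun _ α hα => ⟨1, d, of_decide_eq_true h, ?_⟩, by simp [Tr.kids]⟩
    rwa [map_one, one_mul]
  | kid u st sub next ihs ihn =>
    intro d k h
    simp only [chk, Bool.and_eq_true] at h
    obtain ⟨⟨⟨hmain, hu⟩, hsub⟩, hnext⟩ := h
    refine ⟨fun hm => by simp [Tr.main] at hm, fun bs hbs => ?_⟩
    simp only [Tr.kids, List.mem_cons] at hbs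
    rcases hbs with rfl | hbs
    · exact ⟨u, lt_of_all hu, rfl, (ihs _ 0 hsub).1 hmain⟩
    · exact (ihn d k hnext).2 bs hbs
  | node k gens kids ih =>
    intro d k' h
    refine ⟨fun _ α hα => ?_, by simp [Tr.kids]⟩
    simp only [chk, Bool.and_eq_true] at h
    obtain ⟨⟨⟨⟨hk, hkd⟩, hgens⟩, hcov⟩, hkids⟩ := h
    rw [blt_iff] at hk
    have hkd' : ∀ ju ∈ d, ju.1 ≠ k := by
      intro ju hju
      have := List.all_eq_true.mp hkd ju hju
      simpa only [Bool.not_eq_true', ← Bool.not_eq_true, Nat.beq_eq] using this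
    have hgl : ∀ g ∈ gens, ∀ l ∈ g, l < 9 := fun g hg => by
      have := List.all_eq_true.mp hgens g hg
      simp only [Bool.and_eq_true] at this
      exact lt_of_all this.1
    let K : Subgroup G :=
      { carrier := {h | ∀ ju ∈ d, φ h (φ (evalW e ju.2)⁻¹ 0) = φ (evalW e ju.2)⁻¹ 0}
        mul_mem' := fun {a b} ha hb ju hju => by
          rw [map_mul, Equiv.Perm.mul_apply, hb ju hju, ha ju hju]
        one_mem' := fun ju _ => by simp
        inv_mem' := fun {a} ha ju hju => R.fix_inv (ha ju hju) }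
    have hgK : ∀ g ∈ gens, evalW e g ∈ K := by
      intro g hg ju hju
      have := List.all_eq_true.mp hgens g hg
      simp only [Bool.and_eq_true] at this
      have h1 := List.all_eq_true.mp this.2 ju hju
      rw [Nat.beq_eq] at h1
      refine R.fix_of_walk (hgl g hg) ?_
      rw [R.pt (hα ju hju).2.1]
      exact h1
    obtain ⟨g, hg⟩ : ∃ g, α (e k) = cj g := by
      obtain ⟨z, hz⟩ := R.auto_class α
      refine ⟨α (evalW e (Data.cu.getD k []))⁻¹ * z, ?_⟩
      conv_lhs => rw [R.e_eq_TT hk]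
      rw [TT, cj_mul, ← hz, ← map_inv, ← map_mul, ← map_mul]
      rfl
    obtain ⟨bs, hbs, hb, h0, hh0, hx⟩ := R.reach K hgl hgK hcov (φ g 0)
      (R.cand_sound hα hk hkd' hg)
    obtain ⟨u, hu, hub, hcont⟩ := (ih d k hkids).2 bs hbs
    have hag : Agree (MulAut.conj h0⁻¹ * α) ((k, u) :: d) := by
      intro ju hju
      rcases List.mem_cons.mp hju with rfl | hju
      · refine ⟨hk, hu, ?_⟩
        rw [MulAut.mul_apply, hg, MulAut.conj_apply, ← cj_mul, TT, ← R.cj_eq, map_mul,
          Equiv.Perm.mul_apply, ← hx, map_inv, Equiv.Perm.inv_def, Equiv.symm_apply_apply]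
        exact Fin.ext (by rw [R.pt hu]; exact hub.symm)
      · obtain ⟨h1, h2, h3⟩ := hα ju hju
        refine ⟨h1, h2, ?_⟩
        rw [MulAut.mul_apply, h3, MulAut.conj_apply, TT, ← cj_mul, ← R.cj_eq, map_mul,
          Equiv.Perm.mul_apply]
        exact R.fix_inv (hh0 ju hju)
    obtain ⟨x, d', hd', hx'⟩ := hcont _ hag
    refine ⟨x * h0⁻¹, d', hd', ?_⟩
    rwa [map_mul, mul_assoc]

theorem Rep.concl (R : Rep φ) (α : MulAut G) : Concl α := by
  have h := (R.tree_sound Data.tree [] 0 tree_ok).1 (by decide +kernel) α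
  exact h (fun ju hju => by simp at hju)

theorem closure_letters : Subgroup.closure {g | ∃ l < 9, e l = g} = ⊤ := Fi22Pres.ok.gen

theorem auto_ext {α β : MulAut G} (h : ∀ l < 9, α (e l) = β (e l)) : α = β := by
  apply MulEquiv.toMonoidHom_injective
  refine MonoidHom.eq_of_eqOn_dense closure_letters ?_
  rintro _ ⟨l, hl, rfl⟩
  exact h l hl

theorem out_le : Nat.card (Cfsg.Out G) ≤ 2 := by
  obtain ⟨φ, R⟩ := exists_rep
  have hex : ∀ o : Cfsg.Out G, ∃ α : MulAut G, (QuotientGroup.mk α : Cfsg.Out G) = o ∧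
      ∃ i : Fin 2, Agree α (Data.leaves.getD i []) := by
    intro o
    obtain ⟨α, rfl⟩ := QuotientGroup.mk_surjective o
    obtain ⟨x, d, hd, hag⟩ := R.concl α
    refine ⟨MulAut.conj x * α, ?_, ?_⟩
    · have hx : MulAut.conj x ∈ Cfsg.Inn G := ⟨x, rfl⟩
      rw [QuotientGroup.mk_mul, (QuotientGroup.eq_one_iff _).mpr hx, one_mul]
    · obtain ⟨i, hi, rfl⟩ := List.getElem_of_mem hd
      refine ⟨⟨i, lt_of_lt_of_eq hi leaves_ok.2⟩, ?_⟩
      rwa [List.getD_eq_getElem _ _ hi]
  choose a ha i hi using hex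
  have hinj : Function.Injective i := by
    intro o p hop
    rw [← ha o, ← ha p]
    congr 1
    refine auto_ext fun l hl => ?_
    have hcovl := List.all_eq_true.mp leaves_ok.1 (Data.leaves.getD (i p : ℕ) []) (by
      rw [List.getD_eq_getElem _ _ (lt_of_lt_of_eq (i p).isLt leaves_ok.2.symm)]
      exact List.getElem_mem _) 
    obtain ⟨ju, hju, hjl⟩ := List.any_eq_true.mp
      (List.all_eq_true.mp hcovl l (List.mem_range.mpr hl))
    rw [← Nat.eq_of_beq_eq_true hjl, (hi p ju hju).2.2]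
    exact (hi o ju (by rw [hop]; exact hju)).2.2
  simpa using Nat.card_le_card_of_injective i hinj

/-! ### the arm swap -/

/-- the arm swap on generators -/
def swGen : Cfsg.Spor.Fi22.Gen → Cfsg.Spor.Fi22.Gen
  | .a => .g
  | .b => .f
  | .c => .e
  | .d => .d
  | .e => .c
  | .f => .b
  | .g => .a
  | .h => .h
  | .i => .i

theorem swGen_swGen : ∀ x, swGen (swGen x) = x := by intro x; cases x <;> rfl

theorem swap_rels : ∀ r ∈ Cfsg.Spor.coxRelators Cfsg.Spor.Fi22.edges ∪
    {r | r ∈ Cfsg.Spor.Fi22.extra},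
    FreeGroup.lift (fun x => (PresentedGroup.of (swGen x) : G)) r = 1 := by
  obtain ⟨φ, R⟩ := exists_rep
  let f : Fi22.Gen → G := fun x => PresentedGroup.of (swGen x)
  have hgl : ∀ x : Fi22.Gen, eOf Fi22Pres.pres.gl f (ixOf Fi22Pres.pres.gl x) = f x := fun x =>
    eOf_ix (Fi22Pres.ok.all x)
  have hel : ∀ l, l < 9 → eOf Fi22Pres.pres.gl f l = e (swp l) := by
    intro l hl
    interval_cases l <;> rfl
  have heval : ∀ w ∈ Fi22Pres.pres.R, evalW (eOf Fi22Pres.pres.gl f) w = 1 := by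
    intro w hw
    have hwl : ∀ l ∈ w, l < 9 := by
      have h : (Fi22Pres.pres.R.all fun w => w.all fun l => Nat.blt l 9) = true := by
        decide +kernel
      exact lt_of_all (List.all_eq_true.mp h w hw)
    rw [← R.triv (List.all_eq_true.mp swp_ok w hw), evalW_map]
    unfold evalW
    exact congrArg List.prod (List.map_congr_left fun l hl => hel l (hwl l hl))
  have hcox : CoxHolds Fi22Pres.pres.edges f :=
    coxHolds_of_words Fi22Pres.ok.all Fi22Pres.ok.check fun w hw =>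
      heval w (List.mem_append_left _ hw)
  rintro r (⟨x, hx, y, hy, rfl⟩ | hr)
  · rw [map_pow, map_mul, FreeGroup.lift_apply_of, FreeGroup.lift_apply_of]
    exact hcox x hx y hy
  · have h1 := Fi22Pres.ok.extra_eval G f
      (fun x => (eq_inv_of_mul_eq_one_left (sq_of_coxHolds hcox Fi22Pres.ok.nodes x)).symm)
    have h2 : FreeGroup.lift f r ∈ Fi22Pres.pres.extra.map (FreeGroup.lift f) :=
      List.mem_map.mpr ⟨r, hr, rfl⟩
    rw [h1, List.mem_map] at h2
    obtain ⟨w, hw, hwr⟩ := h2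
    rw [← hwr]
    exact heval w (List.mem_append_right _ hw)

/-- the arm swap as an endomorphism -/
noncomputable def sigmaHom : G →* G := PresentedGroup.toGroup swap_rels

theorem sigmaHom_of (x : Fi22.Gen) :
    sigmaHom (PresentedGroup.of x) = PresentedGroup.of (swGen x) :=
  PresentedGroup.toGroup.of swap_rels

theorem sigmaHom_sigmaHom : sigmaHom.comp sigmaHom = MonoidHom.id G := by
  refine MonoidHom.eq_of_eqOn_dense (PresentedGroup.closure_range_of _) ?_
  rintro _ ⟨x, rfl⟩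
  simp only [MonoidHom.comp_apply, MonoidHom.id_apply, sigmaHom_of, swGen_swGen]

/-- the arm swap as an automorphism -/
noncomputable def sigma : MulAut G :=
  sigmaHom.toMulEquiv sigmaHom sigmaHom_sigmaHom sigmaHom_sigmaHom

theorem sigma_not_inner : sigma ∉ Cfsg.Inn G := by
  rintro ⟨x, hx⟩
  have hx' : ∀ y, x * y * x⁻¹ = sigmaHom y := fun y => DFunLike.congr_fun hx y
  have hD : Hyp Fi22I14080.dat Fi22Pres.pres.e Fi22Main.H' := by
    refine ⟨?_, ?_, fun w hw => Subgroup.subset_closure ⟨w, hw, rfl⟩⟩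
    · change ∀ l, Fi22Pres.pres.e (linv Fi22I14080.invl l) = (Fi22Pres.pres.e l)⁻¹
      rw [Fi22I14080.invl_eq]; exact Fi22Pres.ok.e_inv 9
    · change ∀ w ∈ Fi22I14080.relWords, evalW Fi22Pres.pres.e w = 1
      rw [← Fi22Main.R_eq']; exact Fi22Pres.ok.rel
  obtain ⟨w, hw0, -, hw⟩ := closeSegs_sound hD (E := ⊤) (n := 14080) (K0 := Fi22I14080.known0)
    (tree := Fi22I14080.tree) (segs := Fi22I14080.segs)
    (fun _ _ => Subgroup.mem_top _)
    Fi22I14080.tree_ok Fi22I14080.segs_ok Fi22I14080.full_ok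
  have hlt : ∀ l, l < 9 → ∀ i, i < 14080 → tget Fi22I14080.cols i l < 14080 :=
    ltCheck_sound Fi22I14080.lt_ok
  have hex : ∀ g : G, ∃ i, i < 14080 ∧ g * (w i)⁻¹ ∈ Fi22Main.H' := fun g =>
    cosets_exhaust (e := Fi22Pres.pres.e) (iv := List.range 9) (cols := Fi22I14080.cols) (L := 9)
      (E := ⊤) (by rw [closure_letters]) (fun l hl => ⟨by rw [linv_range]; exact hl,
        Fi22Pres.ok.e_inv 9 l⟩) hlt (by norm_num) hw0 hw g (Subgroup.mem_top g)
  let f : Fin 14080 → G ⧸ Fi22Main.H' := fun i => QuotientGroup.mk (w i)⁻¹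
  have hsurj : Function.Surjective f := by
    intro q
    obtain ⟨g, rfl⟩ := QuotientGroup.mk_surjective q
    obtain ⟨i, hi, hmem⟩ := hex g⁻¹
    refine ⟨⟨i, hi⟩, QuotientGroup.eq.mpr ?_⟩
    have := Fi22Main.H'.inv_mem hmem
    simpa [mul_inv_rev] using this
  have := finite_G
  have hbij : Function.Bijective f :=
    (Nat.bijective_iff_surjective_and_card _).mpr ⟨hsurj, by
      rw [Nat.card_fin, ← Subgroup.index]; exact Fi22Top.H'_index.symm⟩
  obtain ⟨i, hi, hi'⟩ := hex x⁻¹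
  obtain ⟨l, hl, hmove⟩ := List.any_eq_true.mp (allLt_sound swp_move_ok i hi)
  have hl9 : l < 9 := by
    simp only [List.mem_cons, List.not_mem_nil, or_false] at hl; omega
  have hsl : e (swp l) ∈ Fi22Main.H' := by
    refine Subgroup.subset_closure ⟨[swp l], ?_, by simp [evalW]⟩
    simp only [List.mem_cons, List.not_mem_nil, or_false] at hl
    rcases hl with rfl | rfl | rfl | rfl | rfl | rfl | rfl | rfl <;> decide
  have hconj : x⁻¹ * e l * x = e (swp l) := by
    have h1 : sigmaHom (e l) = e (swp l) := by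
      interval_cases l <;> exact sigmaHom_of _
    have h2 : sigmaHom (e (swp l)) = e l := by
      rw [← h1]
      exact DFunLike.congr_fun sigmaHom_sigmaHom _
    rw [← h2, ← hx']; group
  set j := tget Fi22I14080.cols i l
  have hj := hw i hi l hl9
  have hmem : w i * (w j)⁻¹ ∈ Fi22Main.H' := by
    rw [← hconj] at hsl
    have h1 := Fi22Main.H'.mul_mem (Fi22Main.H'.inv_mem
      (Fi22Main.H'.mul_mem (Fi22Main.H'.mul_mem (Fi22Main.H'.inv_mem hi') hsl) hi')) hj
    convert h1 using 1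
    change _ = _ * (w i * e l * (w j)⁻¹)
    group
  have heq : f ⟨i, hi⟩ = f ⟨j, hlt l hl9 i hi⟩ :=
    QuotientGroup.eq.mpr (by simpa using hmem)
  have hij := congrArg Fin.val (hbij.1 heq)
  simp only [Bool.not_eq_true', ← Bool.not_eq_true, Nat.beq_eq] at hmove
  exact hmove hij.symm

theorem out_card : Nat.card (Cfsg.Out G) = 2 := by
  have := finite_G
  have h2 : 2 ≤ Nat.card (Cfsg.Out G) := by
    have : Nontrivial (Cfsg.Out G) :=
      ⟨QuotientGroup.mk sigma, 1, fun h => sigma_not_inner ((QuotientGroup.eq_one_iff _).mp h)⟩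
    exact Finite.one_lt_card
  exact le_antisymm out_le h2

end Cfsg.Agent.H46.Fi22Out
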