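import Cfsg.Agent.H46.Fi22Out.CertsBase

/-!
Kernel checks: the remaining cycle certificates.
-/

set_option autoImplicit false
set_option maxRecDepth 100000
set_option Elab.async false

namespace Cfsg.Agent.H46.Fi22Out

open Cfsg.Agent.H45

theorem cyc_ok1 : ((Data.cyc.drop 30).all fun c => Cyc.ok 9 3510 cols Data.g11 pc c) = true := by
  decide +kernel

end Cfsg.Agent.H46.Fi22Out
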