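import Cfsg.Agent.H46.Fi22Out.CertsBase

/-!
Kernel checks: the subgroup words and the element of order eleven.
-/

set_option autoImplicit false
set_option maxRecDepth 100000
set_option Elab.async false

namespace Cfsg.Agent.H46.Fi22Out

open Cfsg.Agent.H45

theorem sub_comm_ok : (subW.all fun w => triv (0 :: w ++ 0 :: w.reverse)) = true := by
  decide +kernel

theorem sub_refl_ok0 :
    ((subW.take 8).all fun w => (Data.cu ++ [Data.u9]).any fun u =>
      (inS cols (ptOf cols u) || Nat.beq (ptOf cols u) 0) &&
        (u.all fun l => Nat.blt l 9) && triv (conjW u ++ w.reverse)) = true := by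
  decide +kernel

theorem sub_refl_ok1 :
    ((subW.drop 8).all fun w => (Data.cu ++ [Data.u9]).any fun u =>
      (inS cols (ptOf cols u) || Nat.beq (ptOf cols u) 0) &&
        (u.all fun l => Nat.blt l 9) && triv (conjW u ++ w.reverse)) = true := by
  decide +kernel

theorem sub_refl_ok :
    (subW.all fun w => (Data.cu ++ [Data.u9]).any fun u =>
      (inS cols (ptOf cols u) || Nat.beq (ptOf cols u) 0) &&
        (u.all fun l => Nat.blt l 9) && triv (conjW u ++ w.reverse)) = true :=
  all_split 8 sub_refl_ok0 sub_refl_ok1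

theorem g11C_col : allLt (fun x => Nat.beq (walkC (cw cols Data.g11) x) (cget g11C x)) 3510 = true := by
  decide +kernel

theorem g11C_lt : allLt (fun x => Nat.blt (cget g11C x) 3510) 3510 = true := by decide +kernel

theorem g11C_pow : fixAll (List.replicate 11 g11C) 3510 = true := by decide +kernel

theorem g11_rest : (((List.replicate 11 Data.g11).flatten.all fun l => Nat.blt l 9) &&
    Nat.beq (walkC (cw cols Data.g11) 0) 0 && (Data.g11.all fun l => Nat.blt l 9) &&
    triv (0 :: Data.g11 ++ 0 :: Data.g11.reverse) &&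
    allLt (fun x => Nat.beq x 0 || !Nat.beq (cget g11C x) x) 3510) = true := by
  decide +kernel

theorem g11_ok : (triv (List.replicate 11 Data.g11).flatten &&
    Nat.beq (walkC (cw cols Data.g11) 0) 0 && (Data.g11.all fun l => Nat.blt l 9) &&
    triv (0 :: Data.g11 ++ 0 :: Data.g11.reverse) &&
    allLt (fun x => Nat.beq x 0 || !Nat.beq (walkC (cw cols Data.g11) x) x) 3510) = true := by
  have h := g11_rest
  simp only [Bool.and_eq_true] at h
  obtain ⟨⟨⟨⟨h1, h2⟩, h3⟩, h4⟩, h5⟩ := h
  simp only [Bool.and_eq_true]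
  refine ⟨⟨⟨⟨?_, h2⟩, h3⟩, h4⟩, allLt_of fun i hi => ?_⟩
  · unfold triv
    rw [Bool.and_eq_true]
    refine ⟨h1, ?_⟩
    unfold cw
    rw [List.map_flatten, List.map_replicate]
    exact fixAll_replicate g11C_col g11C_lt g11C_pow
  · rw [Nat.eq_of_beq_eq_true (allLt_sound g11C_col i hi)]
    exact allLt_sound h5 i hi

end Cfsg.Agent.H46.Fi22Out
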