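import Cfsg.Agent.H46.Fi22Out.CertsSwapA

/-!
Kernel checks: the arm swap respects the relators.
-/

set_option autoImplicit false
set_option maxRecDepth 100000
set_option Elab.async false

namespace Cfsg.Agent.H46.Fi22Out

open Cfsg.Agent.H45

theorem swp_ok0a : (((Fi22Pres.pres.R.take 45).take 22).all
    fun w => triv (w.map swp)) = true := by decide +kernel

theorem swp_ok0b : (((Fi22Pres.pres.R.take 45).drop 22).all
    fun w => triv (w.map swp)) = true := by decide +kernel

theorem swp_ok0 : ((Fi22Pres.pres.R.take 45).all fun w => triv (w.map swp)) = true :=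
  all_split 22 swp_ok0a swp_ok0b

theorem swp_ok2 : (((Fi22Pres.pres.R.drop 46).take 1).all
    fun w => triv (w.map swp)) = true := by decide +kernel

theorem swp_ok3 : (((Fi22Pres.pres.R.drop 47).take 1).all
    fun w => triv (w.map swp)) = true := by decide +kernel

theorem swp_len : Fi22Pres.pres.R.length ≤ 48 := by decide +kernel

theorem swp_ok : (Fi22Pres.pres.R.all fun w => triv (w.map swp)) = true := by
  have h := swp_len
  refine all_split 45 swp_ok0 ?_
  refine all_split 1 swp_ok1 ?_
  refine all_split 1 (by simpa only [List.drop_drop] using swp_ok2) ?_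
  refine all_split 1 (by simpa only [List.drop_drop] using swp_ok3) ?_
  rw [List.drop_drop, List.drop_drop, List.drop_drop, List.drop_eq_nil_of_le (by omega)]
  rfl

end Cfsg.Agent.H46.Fi22Out
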