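import Cfsg.Agent.H46.Fi22Out.CertsTreeA

/-!
Kernel checks: the rigidity tree.
-/

set_option autoImplicit false
set_option maxRecDepth 100000
set_option Elab.async false

namespace Cfsg.Agent.H46.Fi22Out

open Cfsg.Agent.H45

theorem tree_ok3 : ((((flatTr Data.tree [] 0).drop 12).take 4).all
    (nodeOk 9 3510 cols Data.cu)) = true := by decide +kernel

theorem tree_ok4 : ((((flatTr Data.tree [] 0).drop 16).take 4).all
    (nodeOk 9 3510 cols Data.cu)) = true := by decide +kernel

theorem tree_ok5 : ((((flatTr Data.tree [] 0).drop 20).take 10).all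
    (nodeOk 9 3510 cols Data.cu)) = true := by decide +kernel

theorem tree_shape : shapeOk 9 Data.leaves Data.tree [] 0 = true := by decide +kernel

theorem tree_len : (flatTr Data.tree [] 0).length ≤ 30 := by decide +kernel

theorem tree_ok : chk 9 3510 cols Data.cu Data.leaves Data.tree [] 0 = true := by
  refine chk_of_nodes _ _ _ tree_shape ?_
  have h := tree_len
  refine all_split 4 tree_ok0 ?_
  refine all_split 4 tree_ok1 ?_
  refine all_split 4 (by simpa only [List.drop_drop] using tree_ok2) ?_
  refine all_split 4 (by simpa only [List.drop_drop] using tree_ok3) ?_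
  refine all_split 4 (by simpa only [List.drop_drop] using tree_ok4) ?_
  refine all_split 10 (by simpa only [List.drop_drop] using tree_ok5) ?_
  rw [List.drop_drop, List.drop_drop, List.drop_drop, List.drop_drop, List.drop_drop,
    List.drop_eq_nil_of_le (by omega)]
  rfl

end Cfsg.Agent.H46.Fi22Out
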