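import Cfsg.Agent.H46.Fi22Out.CertsWords
import Cfsg.Agent.H46.Fi22Out.CertsTree
import Cfsg.Agent.H46.Fi22Out.CertsSwap
import Cfsg.Agent.H46.Fi22Out.CertsSub
import Cfsg.Agent.H46.Fi22Out.CertsCycA
import Cfsg.Agent.H46.Fi22Out.CertsCycB

/-!
Kernel checks of the certificates for automorphisms of the Fischer group.
-/

set_option autoImplicit false
set_option maxRecDepth 100000
set_option Elab.async false

namespace Cfsg.Agent.H46.Fi22Out

open Cfsg.Agent.H45

theorem cu_len : Data.cu.length = 9 := by decide +kernel

theorem cu_lt : (Data.cu.all fun u => u.all fun l => Nat.blt l 9) = true := by decide +kernel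

theorem cu_distinct : ((List.range 9).map fun l => ptOf cols (Data.cu.getD l [])).Nodup := by
  decide +kernel

theorem stS_ok : covers 3510 cols subW [(pc, Data.stS)] (inS cols) = true := by decide +kernel

theorem stR_ok : covers 3510 cols subW [(pb, Data.stR)]
    (fun x => !Nat.beq (cget (cols.getD 0 0) x) x) = true := by decide +kernel

theorem kfix_ok : allLt (fun x =>
    bif Data.kw.all (fun w => Nat.beq (walkC (cw cols w) x) x) then
      Nat.beq x pb || Nat.beq x (cget (cols.getD 0 0) pb) || Nat.beq (cget (cols.getD 0 0) x) x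
    else true) 3510 = true := by decide +kernel

theorem cyc_cover_ok : covers 3510 cols [Data.g11]
    (Data.cyc.map fun c => (ptOf cols c.rep, c.st)) (inS cols) = true := by decide +kernel

theorem cyc_ok : (Data.cyc.all fun c => Cyc.ok 9 3510 cols Data.g11 pc c) = true :=
  all_split 30 cyc_ok0 cyc_ok1

theorem stQ_ok : covers 3510 cols [Data.g11, conjW (Data.cu.getD 2 [])] [(pc, Data.stQ)]
    (inS cols) = true := by decide +kernel

theorem leaves_ok : (Data.leaves.all fun d =>
    (List.range 9).all fun l => d.any fun ju => Nat.beq ju.1 l) = true ∧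
    Data.leaves.length = 2 := by decide +kernel

theorem swp_move_ok : allLt (fun i =>
    [0, 1, 2, 3, 4, 5, 7, 8].any fun l => !Nat.beq (cget (Fi22I14080.cols.getD l 0) i) i)
    14080 = true := by decide +kernel

end Cfsg.Agent.H46.Fi22Out
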