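import Cfsg.Agent.H46.Fi22Out.CertsBase

/-!
Kernel checks: the arm swap on the longest relator.
-/

set_option autoImplicit false
set_option maxRecDepth 100000
set_option Elab.async false

namespace Cfsg.Agent.H46.Fi22Out

open Cfsg.Agent.H45

theorem swp_ok1 : (((Fi22Pres.pres.R.drop 45).take 1).all
    fun w => triv (w.map swp)) = true := by decide +kernel

end Cfsg.Agent.H46.Fi22Out
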