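import Cfsg.Agent.H46.Fi22Out.CertsBase

/-!
Kernel checks: the first nodes of the rigidity tree.
-/

set_option autoImplicit false
set_option maxRecDepth 100000
set_option Elab.async false

namespace Cfsg.Agent.H46.Fi22Out

open Cfsg.Agent.H45

theorem tree_ok0 : ((((flatTr Data.tree [] 0).drop 0).take 4).all
    (nodeOk 9 3510 cols Data.cu)) = true := by decide +kernel

theorem tree_ok1 : ((((flatTr Data.tree [] 0).drop 4).take 4).all
    (nodeOk 9 3510 cols Data.cu)) = true := by decide +kernel

theorem tree_ok2 : ((((flatTr Data.tree [] 0).drop 8).take 4).all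
    (nodeOk 9 3510 cols Data.cu)) = true := by decide +kernel

end Cfsg.Agent.H46.Fi22Out
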