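import Cfsg.Agent.H46.Fi22Out.CertsBase

/-!
Kernel checks: the conjugates and the words fixing a point.
-/

set_option autoImplicit false
set_option maxRecDepth 100000
set_option Elab.async false

namespace Cfsg.Agent.H46.Fi22Out

open Cfsg.Agent.H45

theorem cu_ok : ((List.range 9).all fun l => triv (conjW (Data.cu.getD l []) ++ [l])) = true := by
  decide +kernel

theorem kw_ok0 : (((Data.kw.drop 0).take 1).all fun w => triv (0 :: w ++ 0 :: w.reverse) &&
    Nat.beq (walkC (cw cols w) pb) pb) = true := by
  decide +kernel

theorem kw_ok1 : (((Data.kw.drop 1).take 1).all fun w => triv (0 :: w ++ 0 :: w.reverse) &&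
    Nat.beq (walkC (cw cols w) pb) pb) = true := by
  decide +kernel

theorem kw_ok2 : (((Data.kw.drop 2).take 1).all fun w => triv (0 :: w ++ 0 :: w.reverse) &&
    Nat.beq (walkC (cw cols w) pb) pb) = true := by
  decide +kernel

theorem kw_ok3 : (((Data.kw.drop 3).take 1).all fun w => triv (0 :: w ++ 0 :: w.reverse) &&
    Nat.beq (walkC (cw cols w) pb) pb) = true := by
  decide +kernel

theorem kw_len : Data.kw.length ≤ 4 := by decide +kernel

theorem kw_ok : (Data.kw.all fun w => triv (0 :: w ++ 0 :: w.reverse) &&
    Nat.beq (walkC (cw cols w) pb) pb) = true := by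
  have h := kw_len
  refine all_split 1 kw_ok0 ?_
  refine all_split 1 kw_ok1 ?_
  refine all_split 1 (by simpa only [List.drop_drop] using kw_ok2) ?_
  refine all_split 1 (by simpa only [List.drop_drop] using kw_ok3) ?_
  rw [List.drop_drop, List.drop_drop, List.drop_drop, List.drop_eq_nil_of_le (by omega)]
  rfl

end Cfsg.Agent.H46.Fi22Out
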