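import Cfsg.Agent.H45.CosetGroup

/-!
Orbit covers and rigidity trees for a checked table: the first generator is an involution whose
conjugates correspond to the points.
-/

set_option autoImplicit false

namespace Cfsg.Agent.H46.Fi22Out

open Cfsg.Agent.H45

/-- columns of a word -/
def cw (cols w : List ℕ) : List ℕ := w.map fun l => cols.getD l 0

/-- the word of the conjugate of letter `0` given by `u` -/
def conjW (u : List ℕ) : List ℕ := u.reverse ++ 0 :: u

/-- the point of a conjugate -/
noncomputable def ptOf (cols u : List ℕ) : ℕ := walkC (cw cols u) 0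

/-- all numbers below a bound -/
noncomputable def allLt (p : ℕ → Bool) : ℕ → Bool
  | 0 => true
  | i + 1 => p i && allLt p i

theorem allLt_sound {p : ℕ → Bool} : ∀ {m : ℕ}, allLt p m = true → ∀ i, i < m → p i = true := by
  intro m
  induction m with
  | zero => intro _ i hi; omega
  | succ m ih =>
    intro h i hi
    simp only [allLt, Bool.and_eq_true] at h
    rcases Nat.lt_succ_iff_lt_or_eq.mp hi with hi | rfl
    · exact ih h.2 i hi
    · exact h.1

/-- union of orbit searches -/
noncomputable def covK (n : ℕ) (gs : List (List ℕ)) :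
    List (ℕ × List ℕ) → ℕ → (ℕ → Bool) → Bool
  | [], A, k => k A
  | (b, st) :: r, A, k =>
    Nat.blt b n && orbAll n gs st (0 ||| (1 <<< b)) 1 fun K _ =>
      force (A ||| K) fun A' => covK n gs r A' k

/-- every point with the property lies in one of the orbits -/
noncomputable def covers (n : ℕ) (cols : List ℕ) (gens : List (List ℕ))
    (kids : List (ℕ × List ℕ)) (pred : ℕ → Bool) : Bool :=
  covK n (gens.map fun g => g.map fun l => cols.getD l 0) kids 0
    fun A => allLt (fun i => bif pred i then bget A i else true) n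

/-- a search tree -/
inductive Tr where
  | leaf
  | node (k : ℕ) (gens : List (List ℕ)) (kids : Tr)
  | kid (u steps : List ℕ) (sub next : Tr)
  | nil

/-- the children of a node -/
noncomputable def Tr.kids (cols : List ℕ) : Tr → List (ℕ × List ℕ)
  | .kid u st _ next => (ptOf cols u, st) :: Tr.kids cols next
  | _ => []

/-- a tree which is not a list of children -/
def Tr.main : Tr → Bool
  | .leaf => true
  | .node _ _ _ => true
  | _ => false

/-- a possible image of letter `k` -/
noncomputable def cand (cols : List ℕ) (cu : List (List ℕ)) (d : List (ℕ × List ℕ)) (k x : ℕ) :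
    Bool :=
  d.all fun ju =>
    ((Nat.beq (walkC (cw cols (conjW ju.2)) x) x) ==
      (Nat.beq (walkC (cw cols (conjW (cu.getD ju.1 []))) (ptOf cols (cu.getD k [])))
        (ptOf cols (cu.getD k [])))) &&
      !Nat.beq x (ptOf cols ju.2)

/-- the check of a tree -/
noncomputable def chk (L n : ℕ) (cols : List ℕ) (cu : List (List ℕ))
    (leaves : List (List (ℕ × List ℕ))) : Tr → List (ℕ × List ℕ) → ℕ → Bool
  | .leaf, d, _ => decide (d ∈ leaves)
  | .node k gens kids, d, _ =>
    Nat.blt k L && (d.all fun ju => !Nat.beq ju.1 k) &&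
      (gens.all fun g => (g.all fun l => Nat.blt l L) &&
        d.all fun ju => Nat.beq (walkC (cw cols g) (ptOf cols ju.2)) (ptOf cols ju.2)) &&
      covers n cols gens (kids.kids cols) (cand cols cu d k) &&
      chk L n cols cu leaves kids d k
  | .kid u _ sub next, d, k =>
    sub.main && (u.all fun l => Nat.blt l L) && chk L n cols cu leaves sub ((k, u) :: d) 0 &&
      chk L n cols cu leaves next d k
  | .nil, _, _ => true

/-- a certificate for one cycle of the element of order eleven -/
inductive Cyc where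
  | direct (u cycSteps path : List ℕ)
  | ext (u cycSteps orbSteps : List ℕ) (A : ℕ) (W : List (List ℕ))
      (ys : List (List ℕ × List ℕ))

/-- the representative of a cycle -/
def Cyc.rep : Cyc → List ℕ
  | .direct u _ _ => u
  | .ext u _ _ _ _ _ => u

/-- the steps of a cycle -/
def Cyc.st : Cyc → List ℕ
  | .direct _ s _ => s
  | .ext _ s _ _ _ _ => s

/-- a point other than zero fixed by letter zero -/
noncomputable def inS (cols : List ℕ) (x : ℕ) : Bool :=
  !Nat.beq x 0 && Nat.beq (cget (cols.getD 0 0) x) x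

/-- the check of one cycle certificate -/
noncomputable def Cyc.ok (L n : ℕ) (cols g : List ℕ) (q0 : ℕ) : Cyc → Bool
  | .direct u _ p =>
    (u.all fun l => Nat.blt l L) &&
      covers n cols [g, conjW u] [(ptOf cols u, p)] fun x => Nat.beq x q0
  | .ext u _ o A W ys =>
    (u.all fun l => Nat.blt l L) && (W.all fun w => w.all fun l => Nat.blt l L) &&
      (ys.all fun yp => yp.1.all fun l => Nat.blt l L) &&
      covers n cols [g, conjW u] [(ptOf cols u, o)] (fun x => bget A x) &&
      (W.all fun w => bget A (ptOf cols w)) &&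
      Nat.beq (ys.length % 2) 1 && decide (ys.map fun yp => ptOf cols yp.1).Nodup &&
      (ys.all fun yp => inS cols (ptOf cols yp.1) && !bget A (ptOf cols yp.1) &&
        W.all fun w => Nat.beq (walkC (cw cols (conjW w)) (ptOf cols yp.1)) (ptOf cols yp.1)) &&
      allLt (fun y => bif inS cols y && !bget A y &&
          W.all (fun w => Nat.beq (walkC (cw cols (conjW w)) y) y)
        then ys.any (fun yp => Nat.beq y (ptOf cols yp.1)) else true) n &&
      (ys.all fun yp =>
        covers n cols [g, conjW u, conjW yp.1] [(ptOf cols u, yp.2)] fun x => Nat.beq x q0)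

variable {L n : ℕ} {iv cols : List ℕ}

theorem covK_sound (P : PT L n iv cols) {gens : List (List ℕ)}
    (hg : ∀ g ∈ gens, ∀ l ∈ g, l < L) :
    ∀ (kids : List (ℕ × List ℕ)) (A : ℕ) (k : ℕ → Bool),
      covK n (gens.map fun g => g.map fun l => cols.getD l 0) kids A k = true →
      ∃ A', k A' = true ∧ ∀ q, bget A' q = true → bget A q = true ∨
        ∃ bs ∈ kids, ∃ hb : bs.1 < n, ∃ x : Fin n, (x : ℕ) = q ∧
          ∀ Y : Subgroup (Equiv.Perm (Fin n)), (∀ g ∈ gens, evalW (sig P) g ∈ Y) →
            x ∈ MulAction.orbit Y (⟨bs.1, hb⟩ : Fin n) := by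
  intro kids
  induction kids with
  | nil => intro A k h; exact ⟨A, h, fun q hq => Or.inl hq⟩
  | cons bs r ih =>
    obtain ⟨b, st⟩ := bs
    intro A k h
    simp only [covK, Bool.and_eq_true, blt_iff] at h
    obtain ⟨hb, h'⟩ := h
    obtain ⟨K, m, hk, s, -, -, hbit, hY⟩ :=
      orbAll_sound P hg _ _ _ _ (OInv_init P gens ⟨b, hb⟩) h'
    rw [force_eq] at hk
    obtain ⟨A', hA', hsub⟩ := ih _ _ hk
    refine ⟨A', hA', fun q hq => ?_⟩
    rcases hsub q hq with h1 | ⟨bs, hbs, h2⟩
    · rw [bget_eq, Nat.testBit_or, Bool.or_eq_true, ← bget_eq, ← bget_eq] at h1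
      rcases h1 with h1 | h1
      · exact Or.inl h1
      · obtain ⟨x, hx, hxq⟩ := (hbit q).mp h1
        exact Or.inr ⟨(b, st), List.mem_cons_self, hb, x, hxq, fun Y hgY => hY Y hgY x hx⟩
    · exact Or.inr ⟨bs, List.mem_cons_of_mem _ hbs, h2⟩

theorem covers_sound (P : PT L n iv cols) {gens : List (List ℕ)}
    (hg : ∀ g ∈ gens, ∀ l ∈ g, l < L) {kids : List (ℕ × List ℕ)} {pred : ℕ → Bool}
    (h : covers n cols gens kids pred = true) (x : Fin n) (hx : pred x = true) :
    ∃ bs ∈ kids, ∃ hb : bs.1 < n,
      ∀ Y : Subgroup (Equiv.Perm (Fin n)), (∀ g ∈ gens, evalW (sig P) g ∈ Y) →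
        x ∈ MulAction.orbit Y (⟨bs.1, hb⟩ : Fin n) := by
  obtain ⟨A, hA, hsub⟩ := covK_sound P hg kids 0 _ h
  have h1 := allLt_sound hA x x.isLt
  simp only [hx, cond_true] at h1
  rcases hsub x h1 with h2 | ⟨bs, hbs, hb, y, hy, h2⟩
  · rw [bget_eq, Nat.zero_testBit] at h2; exact absurd h2 (by simp)
  · obtain rfl : y = x := Fin.ext hy
    exact ⟨bs, hbs, hb, h2⟩

end Cfsg.Agent.H46.Fi22Out
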