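import Cfsg.Agent.H46.Fi22Out.Transp

/-!
An involution commuting with the element of order eleven is the first generator.
-/

set_option autoImplicit false
set_option maxRecDepth 100000

namespace Cfsg.Agent.H46.Fi22Out

open Cfsg.Agent.H45

theorem exists_fixed_of_odd {α : Type*} [DecidableEq α] (s : Finset α) (f : α → α)
    (hf : ∀ x ∈ s, f x ∈ s) (hff : ∀ x ∈ s, f (f x) = x) (hodd : s.card % 2 = 1) :
    ∃ x ∈ s, f x = x := by
  by_contra hno
  push_neg at hno
  have h : ∑ _x ∈ s, (1 : ZMod 2) = 0 :=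
    Finset.sum_involution (fun a _ => f a) (fun a _ => by decide) (fun a ha _ => hno a ha)
      (fun a ha => hf a ha) (fun a ha => hff a ha)
  rw [Finset.sum_const, nsmul_eq_mul, mul_one, ZMod.natCast_eq_zero_iff_even] at h
  exact absurd (Nat.even_iff.mp h) (by omega)

/-- the element of order eleven -/
noncomputable def g11 : G := evalW e Data.g11

theorem sCard : (Finset.univ.filter fun x : Fin 3510 => inS cols x = true).card % 2 = 1 := by
  decide +kernel

variable {φ : G →* Equiv.Perm (Fin 3510)}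

theorem g11_lt : ∀ l ∈ Data.g11, l < 9 := by
  have h := g11_ok
  simp only [Bool.and_eq_true] at h
  exact lt_of_all h.1.1.2

theorem g11_gen_lt (us : List (List ℕ)) (h : ∀ u ∈ us, ∀ l ∈ u, l < 9) :
    ∀ g ∈ Data.g11 :: us.map conjW, ∀ l ∈ g, l < 9 := by
  intro g hg
  rcases List.mem_cons.mp hg with rfl | hg
  · exact g11_lt
  · obtain ⟨u, hu, rfl⟩ := List.mem_map.mp hg
    exact conjW_lt (h u hu)

section fixed

variable {t : G}

/-- points fixed by `t` stay fixed under the centraliser of `t` -/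
theorem Rep.fixed_move (_R : Rep φ) {k : G} (hk : k * t = t * k) {q : Fin 3510}
    (hq : φ t q = q) : φ t (φ k q) = φ k q := by
  rw [← Equiv.Perm.mul_apply, ← map_mul, ← hk, map_mul, Equiv.Perm.mul_apply, hq]

theorem Rep.fixed_back (R : Rep φ) {k : G} (hk : k * t = t * k) {q : Fin 3510}
    (hq : φ t (φ k q) = φ k q) : φ t q = q := by
  have h := R.fixed_move (t := t) (k := k⁻¹)
    (by rw [inv_mul_eq_iff_eq_mul, ← mul_assoc, hk, mul_inv_cancel_right]) hq
  rwa [map_inv, Equiv.Perm.inv_def, Equiv.symm_apply_apply] at h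

theorem Rep.TT_mem (R : Rep φ) {u : List ℕ} (hu : ∀ l ∈ u, l < 9) {q : Fin 3510}
    (hq : φ t q = q) (hqu : (q : ℕ) = ptOf cols u) :
    evalW e (conjW u) ∈ Subgroup.centralizer {t} := by
  rw [Subgroup.mem_centralizer_singleton_iff, evalW_conjW]
  have h0 : q = φ (evalW e u)⁻¹ 0 := Fin.ext (hqu.trans (R.pt hu).symm)
  subst h0
  exact (R.comm_of_fix hq).symm

theorem Rep.orbit_fixed (R : Rep φ) (hg : g11 * t = t * g11) {us : List (List ℕ)}
    (hus : ∀ u ∈ us, (∀ l ∈ u, l < 9) ∧ ∃ q : Fin 3510, (q : ℕ) = ptOf cols u ∧ φ t q = q)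
    {b : ℕ} {hb : b < 3510} (hbq : φ t ⟨b, hb⟩ = ⟨b, hb⟩) {steps : List ℕ} {pred : ℕ → Bool}
    (h : covers 3510 cols (Data.g11 :: us.map conjW) [(b, steps)] pred = true)
    (x : Fin 3510) (hx : pred x = true) : φ t x = x := by
  obtain ⟨bs, hbs, hb', k, hk, rfl⟩ := R.reach (Subgroup.centralizer {t})
    (g11_gen_lt us fun u hu => (hus u hu).1) (fun g hgm => by
      rcases List.mem_cons.mp hgm with rfl | hgm
      · exact Subgroup.mem_centralizer_singleton_iff.mpr hg
      · obtain ⟨u, hu, rfl⟩ := List.mem_map.mp hgm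
        obtain ⟨hul, q, hq1, hq2⟩ := hus u hu
        exact R.TT_mem hul hq2 hq1) h x hx
  rw [List.mem_singleton] at hbs
  subst hbs
  exact R.fixed_move (Subgroup.mem_centralizer_singleton_iff.mp hk) hbq

theorem Rep.pc_fixed (R : Rep φ) (ht : t * t = 1) (ha : t * e 0 = e 0 * t)
    (hg : g11 * t = t * g11) :
    ∃ hb : pc < 3510, φ t ⟨pc, hb⟩ = ⟨pc, hb⟩ := by
  have hpc : pc < 3510 := by decide +kernel
  refine ⟨hpc, ?_⟩
  have h0 : φ t 0 = 0 := (R.comm_iff_fix0 t).mpr ha
  have hS : ∀ x : Fin 3510, inS cols x = true → inS cols (φ t x) = true := by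
    intro x hx
    rw [R.inS_iff] at hx ⊢
    refine ⟨fun h => hx.1 ((φ t).injective (h.trans h0.symm)), ?_⟩
    rw [← Equiv.Perm.mul_apply, ← map_mul, ← ha, map_mul, Equiv.Perm.mul_apply, hx.2]
  have htt : ∀ x, φ t (φ t x) = x := fun x => by
    rw [← Equiv.Perm.mul_apply, ← map_mul, ht, map_one]; rfl
  obtain ⟨q, hqS, hq⟩ := exists_fixed_of_odd
    (Finset.univ.filter fun x : Fin 3510 => inS cols x = true) (φ t)
    (fun x hx => by simp only [Finset.mem_filter, Finset.mem_univ, true_and] at hx ⊢; exact hS x hx)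
    (fun x _ => htt x) sCard
  simp only [Finset.mem_filter, Finset.mem_univ, true_and] at hqS
  obtain ⟨bs, hbs, hb, k, hk, hkq⟩ := R.reach (Subgroup.centralizer {t})
    (gens := [Data.g11]) (fun g hgm => by rw [List.mem_singleton] at hgm; subst hgm; exact g11_lt)
    (fun g hgm => by
      rw [List.mem_singleton] at hgm; subst hgm
      exact Subgroup.mem_centralizer_singleton_iff.mpr hg)
    cyc_cover_ok q hqS
  obtain ⟨c, hc, rfl⟩ := List.mem_map.mp hbs
  have hrep : φ t (⟨ptOf cols c.rep, hb⟩ : Fin 3510) = ⟨ptOf cols c.rep, hb⟩ :=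
    R.fixed_back (Subgroup.mem_centralizer_singleton_iff.mp hk) (by rw [hkq, hq])
  have hok := List.all_eq_true.mp cyc_ok c hc
  cases c with
  | direct u st p =>
    simp only [Cyc.ok, Bool.and_eq_true] at hok
    refine R.orbit_fixed hg (us := [u]) ?_ hrep hok.2 ⟨pc, hpc⟩ (by simp)
    intro v hv
    rw [List.mem_singleton] at hv; subst hv
    exact ⟨lt_of_all hok.1, _, rfl, hrep⟩
  | ext u st o A W ys =>
    simp only [Cyc.ok, Bool.and_eq_true] at hok
    obtain ⟨⟨⟨⟨⟨⟨⟨⟨⟨hu, hW⟩, hys⟩, hA⟩, hWA⟩, hlen⟩, hnd⟩, hmem⟩, hall⟩, hfin⟩ := hok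
    have hu' := lt_of_all hu
    have hus : ∀ v ∈ [u], (∀ l ∈ v, l < 9) ∧
        ∃ q : Fin 3510, (q : ℕ) = ptOf cols v ∧ φ t q = q := by
      intro v hv
      rw [List.mem_singleton] at hv; subst hv
      exact ⟨hu', _, rfl, hrep⟩
    have hAfix : ∀ x : Fin 3510, bget A x = true → φ t x = x := fun x hx =>
      R.orbit_fixed hg hus hrep hA x hx
    have hWt : ∀ w ∈ W, t * TT w = TT w * t := by
      intro w hw
      have hwl := lt_of_all (List.all_eq_true.mp hW w hw)
      refine R.comm_of_fix (hAfix _ ?_)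
      rw [R.pt hwl]
      exact List.all_eq_true.mp hWA w hw
    let p : Fin 3510 → Bool := fun y => inS cols y && !bget A y &&
      W.all (fun w => Nat.beq (walkC (cw cols (conjW w)) y) y)
    have hpt : ∀ y : Fin 3510, p y = true → p (φ t y) = true := by
      intro y hy
      simp only [p, Bool.and_eq_true, Bool.not_eq_true', List.all_eq_true, Nat.beq_eq] at hy ⊢
      refine ⟨⟨hS y hy.1.1, ?_⟩, fun w hw => ?_⟩
      · rw [← Bool.not_eq_true]
        intro hA'
        have h1 := hAfix _ hA'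
        rw [htt] at h1
        rw [← h1] at hA'
        simp [hy.1.2] at hA'
      · have hwl := lt_of_all (List.all_eq_true.mp hW w hw)
        have h1 := R.fix_of_walk (conjW_lt hwl) (hy.2 w hw)
        refine R.walk_of_fix (conjW_lt hwl) ?_
        rw [evalW_conjW] at h1 ⊢
        exact R.fixed_move (hWt w hw) h1
    have himg : (Finset.univ.filter fun y => p y = true).image Fin.val =
        (ys.map fun yp => ptOf cols yp.1).toFinset := by
      ext y
      simp only [Finset.mem_image, Finset.mem_filter, Finset.mem_univ, true_and, List.mem_toFinset]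
      constructor
      · rintro ⟨z, hz, rfl⟩
        have := allLt_sound hall z z.isLt
        simp only [p] at hz
        rw [hz, cond_true, List.any_eq_true] at this
        obtain ⟨yp, hyp, hbe⟩ := this
        exact List.mem_map.mpr ⟨yp, hyp, (Nat.eq_of_beq_eq_true hbe).symm⟩
      · intro hy
        obtain ⟨yp, hyp, rfl⟩ := List.mem_map.mp hy
        have h1 := R.pt (lt_of_all (List.all_eq_true.mp hys yp hyp))
        refine ⟨φ (evalW e yp.1)⁻¹ 0, ?_, h1⟩
        have := List.all_eq_true.mp hmem yp hyp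
        simp only [p, h1]
        exact this
    have hcard : (Finset.univ.filter fun y => p y = true).card % 2 = 1 := by
      rw [← Finset.card_image_of_injective _ Fin.val_injective, himg,
        List.toFinset_card_of_nodup (of_decide_eq_true hnd), List.length_map]
      exact Nat.eq_of_beq_eq_true hlen
    obtain ⟨y, hy, hyt⟩ := exists_fixed_of_odd (Finset.univ.filter fun y => p y = true) (φ t)
      (fun x hx => by
        simp only [Finset.mem_filter, Finset.mem_univ, true_and] at hx ⊢; exact hpt x hx)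
      (fun x _ => htt x) hcard
    have hy' : (y : ℕ) ∈ (ys.map fun yp => ptOf cols yp.1).toFinset :=
      himg ▸ Finset.mem_image_of_mem _ hy
    rw [List.mem_toFinset, List.mem_map] at hy'
    obtain ⟨yp, hyp, hype⟩ := hy'
    refine R.orbit_fixed hg (us := [u, yp.1]) ?_ hrep (List.all_eq_true.mp hfin yp hyp) ⟨pc, hpc⟩
      (by simp)
    intro v hv
    rcases List.mem_cons.mp hv with rfl | hv
    · exact ⟨hu', _, rfl, hrep⟩
    · rw [List.mem_singleton] at hv; subst hv
      exact ⟨lt_of_all (List.all_eq_true.mp hys yp hyp), y, hype.symm, hyt⟩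

theorem Rep.fixes_S (R : Rep φ) (ht : t * t = 1) (ha : t * e 0 = e 0 * t)
    (hg : g11 * t = t * g11) (x : Fin 3510) (hx : x = 0 ∨ inS cols x = true) : φ t x = x := by
  rcases hx with rfl | hx
  · exact (R.comm_iff_fix0 t).mpr ha
  obtain ⟨hb, hpc⟩ := R.pc_fixed ht ha hg
  refine R.orbit_fixed hg (us := [Data.cu.getD 2 []]) ?_ hpc stQ_ok x hx
  intro v hv
  rw [List.mem_singleton] at hv; subst hv
  exact ⟨cu_lt' 2, _, rfl, hpc⟩

theorem Rep.eq_a (R : Rep φ) (ht1 : t ≠ 1) (ht : t * t = 1) (hg : g11 * t = t * g11) :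
    t = e 0 := by
  have hg11 := g11_ok
  simp only [Bool.and_eq_true] at hg11
  have ht0 : φ t 0 = 0 := by
    by_contra hne
    have h1 : φ g11 (φ t 0) = φ t 0 := R.fixed_move hg.symm
      (R.fix_of_walk g11_lt (Nat.eq_of_beq_eq_true hg11.1.1.1.2))
    have h2 := R.walk_of_fix g11_lt h1
    have h3 := allLt_sound hg11.2 (φ t 0) (φ t 0).isLt
    simp only [Bool.or_eq_true, Bool.not_eq_true', ← Bool.not_eq_true, Nat.beq_eq] at h3
    exact h3.elim (fun h => hne (Fin.ext h)) fun h => h h2
  have ha : t * e 0 = e 0 * t := (R.comm_iff_fix0 t).mp ht0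
  have hS := R.fixes_S ht ha hg
  have hH : Fi22Main.H ≤ Subgroup.centralizer {t} := by
    refine (Subgroup.closure_le _).mpr ?_
    rintro _ ⟨w, hw, rfl⟩
    obtain ⟨u, -, hu⟩ := List.any_eq_true.mp (List.all_eq_true.mp sub_refl_ok w hw)
    simp only [Bool.and_eq_true, Bool.or_eq_true, Nat.beq_eq] at hu
    have hul := lt_of_all hu.1.2
    have h1 := R.triv hu.2
    rw [evalW_append, evalW_conjW, evalW_reverse, mul_inv_eq_one] at h1
    rw [SetLike.mem_coe, Subgroup.mem_centralizer_singleton_iff, ← h1]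
    refine (R.comm_of_fix (hS _ ?_)).symm
    rw [← R.pt hul] at hu
    exact hu.1.1.elim Or.inr fun h => Or.inl (Fin.ext h)
  have hpb : pb < 3510 := by decide +kernel
  let b : Fin 3510 := ⟨pb, hpb⟩
  have hnot : ¬ φ (e 0) b = b := by
    intro h
    have h1 := R.walk_of_fix (w := [0]) (by simp) (x := b) (by simpa [evalW] using h)
    have hne : ¬ walkC (cw cols [0]) pb = pb := by decide +kernel
    exact hne h1
  have hcget : ∀ x : Fin 3510, (φ (e 0) x : ℕ) = cget (cols.getD 0 0) x := by
    intro x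
    have h1 := R.walk (w := [0]) (by simp) x
    simpa [evalW, cw, walkC, force_eq, ← map_inv, e_inv'] using h1
  have hkw : ∀ w ∈ Data.kw, φ (evalW e w) (φ t b) = φ t b := by
    intro w hw
    have hk := List.all_eq_true.mp kw_ok w hw
    simp only [Bool.and_eq_true, Nat.beq_eq] at hk
    have hwl : ∀ l ∈ w, l < 9 := fun l hl => triv_lt hk.1 l (by simp [hl])
    have h1 := R.triv hk.1
    rw [List.cons_append, evalW_cons, evalW_append, evalW_cons, evalW_reverse] at h1
    have h2 : evalW e w * e 0 = e 0 * evalW e w := by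
      rw [← mul_assoc, ← mul_assoc, mul_inv_eq_one] at h1
      calc evalW e w * e 0 = e 0 * e 0 * (evalW e w * e 0) := by rw [e_sq, one_mul]
        _ = e 0 * evalW e w := by
          rw [mul_assoc (e 0) (evalW e w)] at h1
          rw [mul_assoc, h1]
    have h3 : evalW e w ∈ Fi22Main.H := (R.stab _).mp ((R.comm_iff_fix0 _).mpr h2)
    exact R.fixed_move (Subgroup.mem_centralizer_singleton_iff.mp (hH h3)).symm
      (R.fix_of_walk hwl hk.2)
  have hz : φ t b = b ∨ φ t b = φ (e 0) b := by
    have h1 := allLt_sound kfix_ok (φ t b) (φ t b).isLt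
    rw [List.all_eq_true.mpr fun w hw => by
      rw [Nat.beq_eq]
      exact R.walk_of_fix (fun l hl => triv_lt
        (by have := List.all_eq_true.mp kw_ok w hw
            simp only [Bool.and_eq_true] at this
            exact this.1) l (by simp [hl])) (hkw w hw)] at h1
    simp only [cond_true, Bool.or_eq_true, Nat.beq_eq, ← hcget] at h1
    rcases h1 with (h | h) | h
    · exact Or.inl (Fin.ext h)
    · exact Or.inr (Fin.ext (h.trans (hcget b).symm))
    · exfalso
      exact hnot (R.fixed_back (t := e 0) ha (Fin.ext h))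
  have key : ∀ s : G, Fi22Main.H ≤ Subgroup.centralizer {s} → φ s 0 = 0 →
      (∀ x : Fin 3510, inS cols x = true → φ s x = x) → φ s b = b → s = 1 := by
    intro s hs h0 hSs hsb
    apply R.inj
    rw [map_one]
    apply Equiv.ext; intro x
    rw [Equiv.Perm.one_apply]
    by_cases hx0 : x = 0
    · subst hx0; exact h0
    by_cases hx : φ (e 0) x = x
    · exact hSs x ((R.inS_iff x).mpr ⟨hx0, hx⟩)
    obtain ⟨bs, hbs, hb', k, hk, rfl⟩ := R.reach Fi22Main.H subW_lt
      (fun w hw => Subgroup.subset_closure ⟨w, hw, rfl⟩) stR_ok x (by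
        simp only [Bool.not_eq_true', ← Bool.not_eq_true, Nat.beq_eq, ← hcget]
        exact fun h => hx (Fin.ext h))
    rw [List.mem_singleton] at hbs; subst hbs
    exact R.fixed_move (Subgroup.mem_centralizer_singleton_iff.mp (hs hk)) hsb
  have h0S : ∀ x : Fin 3510, inS cols x = true → φ t x = x := fun x hx => hS x (Or.inr hx)
  rcases hz with hz | hz
  · exact absurd (key t hH ht0 h0S hz) ht1
  · have := key (e 0 * t) (fun k hk => ?_) ?_ (fun x hx => ?_) ?_
    · exact (eq_inv_of_mul_eq_one_right this).trans (e_inv' 0)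
    · have h1 := Subgroup.mem_centralizer_singleton_iff.mp (R.H_comm hk)
      have h2 := Subgroup.mem_centralizer_singleton_iff.mp (hH hk)
      rw [Subgroup.mem_centralizer_singleton_iff, ← mul_assoc, h1, mul_assoc, h2, mul_assoc]
    · rw [map_mul, Equiv.Perm.mul_apply, ht0, R.comm_iff_fix0]
    · rw [map_mul, Equiv.Perm.mul_apply, h0S x hx]
      exact ((R.inS_iff x).mp hx).2
    · rw [map_mul, Equiv.Perm.mul_apply, hz, ← Equiv.Perm.mul_apply, ← map_mul, e_sq, map_one]
      rfl

end fixed

end Cfsg.Agent.H46.Fi22Out
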