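import Cfsg.Agent.H45.Fi22Top
import Cfsg.Agent.H46.Fi22Out.Certs

/-!
The points of the table as conjugates of the first generator; every automorphism preserves them.
-/

set_option autoImplicit false
set_option maxRecDepth 100000

namespace Cfsg.Agent.H46.Fi22Out

open Cfsg.Agent.H45 Cfsg.Spor

/-- the group -/
abbrev G : Type := Fi22Pres.pres.Gp

/-- the letters -/
abbrev e : ℕ → G := Fi22Pres.pres.e

/-- the checked table -/
theorem PT9 : PT 9 3510 (List.range 9) cols := permCheck_PT Fi22Main.perm_ok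

/-- a conjugate of the first generator -/
noncomputable def cj (g : G) : G := g * e 0 * g⁻¹

/-- the conjugate given by a word -/
noncomputable def TT (u : List ℕ) : G := cj (evalW e u)⁻¹

theorem e_sq (l : ℕ) : e l * e l = 1 := by
  have h := eOf_inv Fi22Pres.ok.sq (gl := Fi22Pres.pres.gl)
    (f := (PresentedGroup.of : Fi22.Gen → G)) l
  change e l = (e l)⁻¹ at h
  conv_lhs => arg 2; rw [h]
  exact mul_inv_cancel _

theorem e_inv' (l : ℕ) : (e l)⁻¹ = e l := inv_eq_of_mul_eq_one_right (e_sq l)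

theorem evalW_reverse : ∀ w : List ℕ, evalW e w.reverse = (evalW e w)⁻¹
  | [] => by simp [evalW]
  | x :: w => by
    rw [List.reverse_cons, evalW_append, evalW_reverse w, evalW_cons, evalW_cons, evalW_nil,
      mul_one, mul_inv_rev, e_inv']

theorem evalW_conjW (u : List ℕ) : evalW e (conjW u) = TT u := by
  rw [conjW, evalW_append, evalW_cons, evalW_reverse, TT, cj, inv_inv, mul_assoc]

theorem cj_sq (g : G) : cj g * cj g = 1 := by
  have : cj g * cj g = g * (e 0 * e 0) * g⁻¹ := by simp only [cj]; group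
  rw [this, e_sq, mul_one, mul_inv_cancel]

theorem cj_inv (g : G) : (cj g)⁻¹ = cj g := inv_eq_of_mul_eq_one_right (cj_sq g)

theorem cj_mul (h g : G) : cj (h * g) = h * cj g * h⁻¹ := by
  simp only [cj]; group

theorem cj_one : cj 1 = e 0 := by simp [cj]

/-- the permutation representation -/
structure Rep (φ : G →* Equiv.Perm (Fin 3510)) : Prop where
  act : Act PT9 e φ
  inj : Function.Injective φ
  stab : ∀ g : G, φ g 0 = 0 ↔ g ∈ Fi22Main.H
  trans : ∀ x : Fin 3510, ∃ g, φ g 0 = x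

theorem exists_rep : ∃ φ : G →* Equiv.Perm (Fin 3510), Rep φ := by
  obtain ⟨-, -, φ, hA, hinj, F, hF0, hF⟩ := Fi22Top.order_facts
  refine ⟨φ, hA, hinj, fun g => ?_, fun x => transitive_of_equiv F hF 0 x⟩
  have h := hF g (QuotientGroup.mk 1)
  rw [hF0] at h
  rw [← h, ← hF0, F.apply_eq_iff_eq, MulAction.Quotient.smul_mk, smul_eq_mul, mul_one,
    QuotientGroup.eq]
  simp

variable {φ : G →* Equiv.Perm (Fin 3510)}

theorem Rep.walk (R : Rep φ) {w : List ℕ} (hw : ∀ l ∈ w, l < 9) (x : Fin 3510) :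
    ((φ (evalW e w))⁻¹ x : ℕ) = walkC (cw cols w) x := by
  rw [R.act.evalW w hw, sig_walk PT9 w hw, cw, walkC_map]

theorem Rep.fix_of_walk (R : Rep φ) {w : List ℕ} (hw : ∀ l ∈ w, l < 9) {x : Fin 3510}
    (h : walkC (cw cols w) x = x) : φ (evalW e w) x = x := by
  have h1 : (φ (evalW e w))⁻¹ x = x := Fin.ext (by rw [R.walk hw, h])
  exact (Equiv.Perm.eq_inv_iff_eq.mp h1.symm)

theorem Rep.walk_of_fix (R : Rep φ) {w : List ℕ} (hw : ∀ l ∈ w, l < 9) {x : Fin 3510}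
    (h : φ (evalW e w) x = x) : walkC (cw cols w) x = x := by
  rw [← R.walk hw, Equiv.Perm.eq_inv_iff_eq.mpr h |>.symm]

theorem Rep.triv (R : Rep φ) {w : List ℕ} (h : triv w = true) : evalW e w = 1 :=
  evalW_eq_one (P := Fi22Pres.pres) (T := PT9) R.act R.inj h

theorem triv_lt {w : List ℕ} (h : triv w = true) : ∀ l ∈ w, l < 9 := by
  simp only [Fi22Out.triv, Bool.and_eq_true, List.all_eq_true, blt_iff] at h
  exact h.1

theorem lt_of_all {w : List ℕ} (h : (w.all fun l => Nat.blt l 9) = true) : ∀ l ∈ w, l < 9 := by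
  simpa [List.all_eq_true, blt_iff] using h

theorem conjW_lt {u : List ℕ} (h : ∀ l ∈ u, l < 9) : ∀ l ∈ conjW u, l < 9 := by
  intro l hl
  simp only [conjW, List.mem_append, List.mem_reverse, List.mem_cons] at hl
  rcases hl with hl | rfl | hl
  · exact h l hl
  · norm_num
  · exact h l hl

/-- the point of a word -/
theorem Rep.pt (R : Rep φ) {u : List ℕ} (hu : ∀ l ∈ u, l < 9) :
    (φ (evalW e u)⁻¹ 0 : ℕ) = ptOf cols u := by
  rw [map_inv]; exact R.walk hu 0

theorem Rep.reach (R : Rep φ) (K : Subgroup G) {gens : List (List ℕ)}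
    (hl : ∀ g ∈ gens, ∀ l ∈ g, l < 9) (hK : ∀ g ∈ gens, evalW e g ∈ K)
    {kids : List (ℕ × List ℕ)} {pred : ℕ → Bool}
    (h : covers 3510 cols gens kids pred = true) (x : Fin 3510) (hx : pred x = true) :
    ∃ bs ∈ kids, ∃ hb : bs.1 < 3510, ∃ k ∈ K, φ k ⟨bs.1, hb⟩ = x := by
  obtain ⟨bs, hbs, hb, hY⟩ := covers_sound PT9 hl h x hx
  obtain ⟨⟨y, hy⟩, hyx⟩ := hY (K.map φ)
    (fun g hg => ⟨_, hK g hg, R.act.evalW g (hl g hg)⟩)
  obtain ⟨k, hk, rfl⟩ := hy
  exact ⟨bs, hbs, hb, k, hk, hyx⟩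

theorem Rep.fix_inv (_R : Rep φ) {g : G} {x : Fin 3510} (h : φ g x = x) : φ g⁻¹ x = x := by
  rw [map_inv]
  exact (Equiv.Perm.inv_eq_iff_eq.mpr h.symm)

theorem subW_lt : ∀ g ∈ subW, ∀ l ∈ g, l < 9 := by decide +kernel

theorem Rep.H_comm (R : Rep φ) : Fi22Main.H ≤ Subgroup.centralizer {e 0} := by
  refine (Subgroup.closure_le _).mpr ?_
  rintro _ ⟨w, hw, rfl⟩
  rw [SetLike.mem_coe, Subgroup.mem_centralizer_singleton_iff]
  have h := R.triv (List.all_eq_true.mp sub_comm_ok w hw)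
  rw [List.cons_append, evalW_cons, evalW_append, evalW_cons, evalW_reverse] at h
  have h2 : e 0 * (evalW e w * e 0) = evalW e w := by
    rw [← mul_assoc, ← mul_assoc] at h
    exact mul_inv_eq_one.mp (by simpa [mul_assoc] using h)
  calc evalW e w * e 0 = e 0 * (e 0 * (evalW e w * e 0)) := by
        rw [← mul_assoc (e 0) (e 0), e_sq, one_mul]
    _ = e 0 * evalW e w := by rw [h2]

theorem Rep.e_eq_TT (R : Rep φ) {l : ℕ} (hl : l < 9) : e l = TT (Data.cu.getD l []) := by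
  have h := R.triv (List.all_eq_true.mp cu_ok l (List.mem_range.mpr hl))
  rw [evalW_append, evalW_conjW, evalW_cons, evalW_nil, mul_one] at h
  rw [eq_inv_of_mul_eq_one_right h, TT, cj_inv]

theorem cu_lt' (l : ℕ) : ∀ i ∈ Data.cu.getD l [], i < 9 := by
  rw [List.getD_eq_getElem?_getD]
  rcases Nat.lt_or_ge l Data.cu.length with h | h
  · rw [List.getElem?_eq_getElem h, Option.getD_some]
    exact lt_of_all (List.all_eq_true.mp cu_lt _ (List.getElem_mem h))
  · rw [List.getElem?_eq_none h]; simp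

theorem Rep.inS_iff (R : Rep φ) (x : Fin 3510) :
    inS cols x = true ↔ x ≠ 0 ∧ φ (e 0) x = x := by
  have hw : ∀ l ∈ [0], l < 9 := by simp
  have hev : evalW e [0] = e 0 := by simp [evalW]
  have hwalk : walkC (cw cols [0]) x = cget (cols.getD 0 0) x := by
    simp [cw, walkC, force_eq]
  simp only [inS, Bool.and_eq_true, Bool.not_eq_true', ← Bool.not_eq_true, Nat.beq_eq]
  constructor
  · rintro ⟨h0, h1⟩
    exact ⟨fun h => h0 (by simp [h]), hev ▸ R.fix_of_walk hw (hwalk.trans h1)⟩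
  · rintro ⟨h0, h1⟩
    exact ⟨fun h => h0 (Fin.ext h), hwalk.symm.trans (R.walk_of_fix hw (hev.symm ▸ h1))⟩

theorem Rep.comm_iff_fix0 (R : Rep φ) (g : G) : φ g 0 = 0 ↔ g * e 0 = e 0 * g := by
  rw [R.stab]
  constructor
  · intro h; exact Subgroup.mem_centralizer_singleton_iff.mp (R.H_comm h)
  intro hg
  rw [← R.stab]
  by_contra hne
  have hfix : φ (e 0) (φ g 0) = φ g 0 := by
    have h0 : φ (e 0) 0 = 0 := (R.stab _).mpr (Subgroup.subset_closure ⟨[0], by decide, by simp [evalW]⟩)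
    rw [← Equiv.Perm.mul_apply, ← map_mul, ← hg, map_mul, Equiv.Perm.mul_apply, h0]
  obtain ⟨bs, hbs, hb, h, hh, hhx⟩ := R.reach Fi22Main.H subW_lt
    (fun w hw => Subgroup.subset_closure ⟨w, hw, rfl⟩) stS_ok (φ g 0)
    ((R.inS_iff _).mpr ⟨hne, hfix⟩)
  rw [List.mem_singleton] at hbs; subst hbs
  have hc2 : φ (evalW e (Data.cu.getD 2 []))⁻¹ 0 = ⟨pc, hb⟩ := Fin.ext (R.pt (cu_lt' 2))
  have hH : (evalW e (Data.cu.getD 2 []))⁻¹⁻¹ * (h⁻¹ * g) ∈ Fi22Main.H := by
    rw [← R.stab, map_mul, map_inv, map_mul, Equiv.Perm.mul_apply, Equiv.Perm.mul_apply,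
      map_inv φ h, ← hhx, Equiv.Perm.inv_def (φ h), Equiv.symm_apply_apply, ← hc2,
      Equiv.Perm.inv_def, Equiv.symm_apply_apply]
  have hac := Subgroup.mem_centralizer_singleton_iff.mp (R.H_comm hH)
  have hha := Subgroup.mem_centralizer_singleton_iff.mp (R.H_comm hh)
  have e1 : cj ((evalW e (Data.cu.getD 2 []))⁻¹⁻¹ * (h⁻¹ * g)) = e 0 := by
    rw [cj, hac, mul_inv_cancel_right]
  have e2 : cj (h⁻¹ * g) = e 0 := by
    rw [cj_mul, cj, hg, mul_inv_cancel_right, inv_inv, mul_assoc, ← hha, inv_mul_cancel_left]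
  rw [inv_inv, cj_mul, e2] at e1
  have e3 : TT (Data.cu.getD 2 []) = e 0 := by
    calc TT (Data.cu.getD 2 []) =
        (evalW e (Data.cu.getD 2 []))⁻¹ * e 0 * (evalW e (Data.cu.getD 2 [])) := by
          rw [TT, cj, inv_inv]
      _ = (evalW e (Data.cu.getD 2 []))⁻¹ * (evalW e (Data.cu.getD 2 []) * e 0 *
          (evalW e (Data.cu.getD 2 []))⁻¹) * evalW e (Data.cu.getD 2 []) := by rw [e1]
      _ = e 0 := by group
  rw [← R.e_eq_TT (by norm_num : (2 : ℕ) < 9)] at e3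
  have h4 := congrArg φ e3
  have hw : ∀ l ∈ [2], l < 9 := by simp
  have hw0 : ∀ l ∈ [0], l < 9 := by simp
  have h5 := R.walk hw ⟨pb, by decide +kernel⟩
  have h6 := R.walk hw0 ⟨pb, by decide +kernel⟩
  simp only [evalW_cons, evalW_nil, mul_one] at h5 h6
  rw [h4, h6] at h5
  exact absurd h5 (by decide +kernel)

theorem Rep.cj_eq (R : Rep φ) (g x : G) : φ g 0 = φ x 0 ↔ cj g = cj x := by
  have h1 : φ g 0 = φ x 0 ↔ φ (x⁻¹ * g) 0 = 0 := by
    rw [map_mul, Equiv.Perm.mul_apply, map_inv, Equiv.Perm.inv_eq_iff_eq]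
  rw [h1, R.comm_iff_fix0]
  simp only [cj]
  constructor
  · intro h
    calc g * e 0 * g⁻¹ = x * (x⁻¹ * g * e 0) * g⁻¹ := by group
      _ = x * (e 0 * (x⁻¹ * g)) * g⁻¹ := by rw [h]
      _ = x * e 0 * x⁻¹ := by group
  · intro h
    calc x⁻¹ * g * e 0 = x⁻¹ * (g * e 0 * g⁻¹) * g := by group
      _ = x⁻¹ * (x * e 0 * x⁻¹) * g := by rw [h]
      _ = e 0 * (x⁻¹ * g) := by group

theorem Rep.fix_iff_comm (R : Rep φ) (g x : G) :
    φ (cj g) (φ x 0) = φ x 0 ↔ cj g * cj x = cj x * cj g := by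
  rw [← Equiv.Perm.mul_apply, ← map_mul, R.cj_eq, cj_mul]
  exact mul_inv_eq_iff_eq_mul

theorem Rep.fixT (R : Rep φ) {g x : G} (hg : g * cj x = cj x * g) : φ g (φ x 0) = φ x 0 := by
  rw [← Equiv.Perm.mul_apply, ← map_mul, R.cj_eq, cj_mul]
  exact mul_inv_eq_iff_eq_mul.mpr hg

theorem Rep.comm_of_fix (R : Rep φ) {g x : G} (h : φ g (φ x 0) = φ x 0) :
    g * cj x = cj x * g := by
  rw [← Equiv.Perm.mul_apply, ← map_mul, R.cj_eq, cj_mul] at h
  exact mul_inv_eq_iff_eq_mul.mp h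

end Cfsg.Agent.H46.Fi22Out
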